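import Groth.Agent.DimFormulaIrr.Dominant
import Groth.Agent.FlatDescent.Scheme
import Groth.Agent.FlatDescent.CM.Main
import Groth.Agent.LocalDim.Point

/-! Local dimensions along Cohen–Macaulay morphisms. -/

universe u

open CategoryTheory CategoryTheory.Limits AlgebraicGeometry TopologicalSpace

namespace Groth.Agent.CMLocalDim

theorem dim_opens {X : Scheme.{u}} (U : X.Opens) :
    topologicalKrullDim (U : Set X) = ⨆ u : U, ringKrullDim (X.presheaf.stalk (u : X)) := by
  refine (DimFormulaIrr.topologicalKrullDim_eq_iSup (U : Scheme.{u})).trans (iSup_congr fun u => ?_)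
  exact (ringKrullDim_eq_of_ringEquiv (asIso (U.ι.stalkMap u)).commRingCatIsoToRingEquiv).symm

variable {X Y : Scheme.{u}} (f : X ⟶ Y) [IsLocallyNoetherian Y] [LocallyOfFiniteType f]

/-- The fibre dimension formula at a point of flatness. -/
theorem dim_stalk_eq (y : Y) (z : ↑(f.fiber y)) (h : (f.stalkMap (f.fiberι y z)).hom.Flat) :
    ringKrullDim (X.presheaf.stalk (f.fiberι y z)) =
      ringKrullDim (Y.presheaf.stalk (f (f.fiberι y z))) + ringKrullDim ((f.fiber y).presheaf.stalk z) := by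
  haveI : IsLocallyNoetherian X := LocallyOfFiniteType.isLocallyNoetherian f
  let x := f.fiberι y z
  let R := Y.presheaf.stalk (f x)
  let S := X.presheaf.stalk x
  letI : Algebra R S := (f.stalkMap x).hom.toAlgebra
  haveI : IsLocalHom (algebraMap R S) := inferInstanceAs (IsLocalHom (f.stalkMap x).hom)
  haveI : Module.Flat R S := h
  have hc : (IsLocalRing.maximalIdeal S).comap (algebraMap R S) = IsLocalRing.maximalIdeal R :=
    ((IsLocalRing.local_hom_TFAE _).out 0 4).mp ‹_›
  haveI : (IsLocalRing.maximalIdeal S).LiesOver (IsLocalRing.maximalIdeal R) := ⟨hc.symm⟩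
  have h3 := Ideal.height_eq_height_add_of_liesOver_of_hasGoingDown (IsLocalRing.maximalIdeal R) (IsLocalRing.maximalIdeal S)
  let I := (IsLocalRing.maximalIdeal R).map (algebraMap R S)
  haveI : Nontrivial (S ⧸ I) := Ideal.Quotient.nontrivial_iff.mpr
    (ne_top_of_le_ne_top (IsLocalRing.maximalIdeal.isMaximal S).ne_top (Ideal.map_le_iff_le_comap.mpr hc.ge))
  haveI : IsLocalRing (S ⧸ I) := .of_surjective' (Ideal.Quotient.mk _) Ideal.Quotient.mk_surjective
  have hF : ringKrullDim (S ⧸ I) = ringKrullDim ((f.fiber y).presheaf.stalk z) :=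
    ringKrullDim_eq_of_ringEquiv ((Ideal.quotEquivOfEq (Groth.FlatDescent.ker_stalkMap_fiberι f y z).symm).trans
      (RingHom.quotientKerEquivOfSurjective ((f.fiberι y).stalkMap_surjective z)))
  rw [← hF, ← IsLocalRing.maximalIdeal_height_eq_ringKrullDim (R := S),
    ← IsLocalRing.maximalIdeal_height_eq_ringKrullDim (R := R),
    ← IsLocalRing.maximalIdeal_height_eq_ringKrullDim (R := S ⧸ I),
    ← IsLocalRing.map_maximalIdeal_of_surjective _ (Ideal.Quotient.mk_surjective (I := I)), ← WithBot.coe_add]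
  exact congrArg _ h3

variable [LocallyOfFinitePresentation f] (hflat : ∀ x : X, (f.stalkMap x).hom.Flat) (n : ℕ) (U : X.Opens)
  (hU : ∀ u ∈ U, FlatMor.fibreDimAt f u = n)
include hflat hU

theorem dim_stalk_le (u : X) (hu : u ∈ U) :
    ringKrullDim (X.presheaf.stalk u) ≤ ringKrullDim (Y.presheaf.stalk (f u)) + n := by
  letI : (f.fiber (f u)).Over (Spec (CommRingCat.of (Y.residueField (f u)))) := ⟨f.fiberToSpecResidueField (f u)⟩
  haveI : LocallyOfFiniteType ((f.fiber (f u)) ↘ Spec (CommRingCat.of (Y.residueField (f u)))) :=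
    MorphismProperty.of_isPullback (P := @LocallyOfFiniteType) (IsPullback.of_hasPullback f (Y.fromSpecResidueField (f u))) inferInstance
  obtain ⟨a, -, ha, -⟩ := LocalDim.exists_localDim_eq_stalk (Y.residueField (f u)) (f.fiber (f u)) (f.asFiber u)
  have h := dim_stalk_eq f (f u) (f.asFiber u) (hflat _)
  have hn := hU u hu
  rw [FlatMor.fibreDimAt] at hn
  rw [f.fiberι_asFiber] at h
  rw [h]
  refine add_le_add le_rfl ?_
  rw [← hn, ha]
  exact le_add_of_nonneg_right (Nat.cast_nonneg a)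

omit hflat in
theorem exists_closed_in_fibre (W : X.Opens) (hW : W ≤ U) (u : X) (hu : u ∈ W) :
    ∃ z : ↑(f.fiber (f u)), f.fiberι (f u) z ∈ W ∧
      ringKrullDim ((f.fiber (f u)).presheaf.stalk z) = n := by
  letI : (f.fiber (f u)).Over (Spec (CommRingCat.of (Y.residueField (f u)))) := ⟨f.fiberToSpecResidueField (f u)⟩
  haveI : LocallyOfFiniteType ((f.fiber (f u)) ↘ Spec (CommRingCat.of (Y.residueField (f u)))) :=
    MorphismProperty.of_isPullback (P := @LocallyOfFiniteType) (IsPullback.of_hasPullback f (Y.fromSpecResidueField (f u))) inferInstance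
  obtain ⟨z, hzW, hz⟩ := nonempty_inter_closedPoints (X := ↑(f.fiber (f u))) (Z := f.fiberι (f u) ⁻¹' (W : Set X))
    ⟨f.asFiber u, by simpa using hu⟩ ((W.isOpen.preimage (f.fiberι (f u)).continuous).isLocallyClosed)
  refine ⟨z, hzW, ?_⟩
  obtain ⟨a, -, ha, ha0⟩ := LocalDim.exists_localDim_eq_stalk (Y.residueField (f u)) (f.fiber (f u)) z
  rw [ha0 hz, Nat.cast_zero, add_zero] at ha
  rw [← ha]
  have hfu : f (f.fiberι (f u) z) = f u := (f.range_fiberι (f u)).le ⟨z, rfl⟩
  have h := hU _ (hW hzW)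
  rw [FlatMor.fibreDimAt] at h
  rw [← h]
  have key : ∀ (y : Y) (z : ↑(f.fiber y)) (y' : Y) (z' : ↑(f.fiber y')), y = y' → f.fiberι y z = f.fiberι y' z' →
      FlatMor.localDim ↑(f.fiber y) z = FlatMor.localDim ↑(f.fiber y') z' := by
    rintro y z y' z' rfl he
    rw [(f.fiberι y).isEmbedding.injective he]
  exact (key _ _ _ _ hfu (f.fiberι_asFiber _)).symm

theorem localDim_eq (x : X) (hx : x ∈ U) :
    FlatMor.localDim ↥X x = FlatMor.localDim ↥Y (f x) + n := by
  refine le_antisymm ?_ ?_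
  · obtain ⟨V, hV, hxV, hdim⟩ := FibreDim.exists_localDim (T := ↥Y) (f x)
    let U' : X.Opens := U ⊓ f ⁻¹ᵁ ⟨V, hV⟩
    refine (FibreDim.localDim_le U'.isOpen (show x ∈ (U' : Set X) from ⟨hx, hxV⟩)).trans ?_
    rw [dim_opens U', ← hdim]
    refine iSup_le fun u => (dim_stalk_le f hflat n U hU u.1 u.2.1).trans (add_le_add ?_ le_rfl)
    exact le_of_le_of_eq (le_iSup (fun v : (⟨V, hV⟩ : Y.Opens) => ringKrullDim (Y.presheaf.stalk (v : Y))) ⟨f u.1, u.2.2⟩)
      (dim_opens ⟨V, hV⟩).symm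
  · haveI : Flat f := (AlgebraicGeometry.Flat.iff_flat_stalkMap f).mpr hflat
    obtain ⟨O, hO, hxO, hdim⟩ := FibreDim.exists_localDim (T := ↥X) x
    let U' : X.Opens := U ⊓ ⟨O, hO⟩
    let V' : Y.Opens := ⟨f '' (U' : Set X), f.isOpenMap _ U'.isOpen⟩
    have hle : topologicalKrullDim (U' : Set X) ≤ FlatMor.localDim ↥X x := by
      rw [← hdim]; exact FibreDim.dim_mono fun a ha => ha.2
    refine le_trans ?_ hle
    refine le_trans (add_le_add (FibreDim.localDim_le V'.isOpen (show f x ∈ (V' : Set Y) from ⟨x, ⟨hx, hxO⟩, rfl⟩)) le_rfl) ?_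
    haveI : Nonempty (SetLike.coe V' : Set Y) := ⟨⟨f x, x, ⟨hx, hxO⟩, rfl⟩⟩
    rw [dim_opens V', dim_opens U']
    refine le_trans (le_of_eq (DimFormulaIrr.iSup_range_add
      (fun v : (SetLike.coe V' : Set Y) => ringKrullDim (Y.presheaf.stalk (v : Y))) n
      (fun v => ne_bot_of_le_ne_bot (by simp) ringKrullDim_nonneg_of_nontrivial)).symm) ?_
    refine iSup_le fun ⟨y, u, hu, huy⟩ => ?_
    subst huy
    obtain ⟨z, hzW, hz⟩ := exists_closed_in_fibre f n U hU U' inf_le_left u hu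
    refine le_trans ?_ (le_iSup (fun w : U' => ringKrullDim (X.presheaf.stalk (w : X))) ⟨_, hzW⟩)
    show _ ≤ ringKrullDim (X.presheaf.stalk (f.fiberι (f u) z))
    rw [dim_stalk_eq f _ z (hflat _), hz, show f (f.fiberι (f u) z) = f u from (f.range_fiberι (f u)).le ⟨z, rfl⟩]

end Groth.Agent.CMLocalDim
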